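import Mathlib
import Cfsg.Agent.Helper86.RU3TR
import Cfsg.Agent.Helper75.P5_HB
import Cfsg.Agent.Helper97.U3E.Tv

/-!
# S2786 (`U₃(q)`, `q` odd, module bounds): common definitions (helper88)

Port of helper97's route for S2784 (`q` even) to odd characteristic.  The Sylow `p`-subgroup is modelled in
helper84's hyperbolic model `SUJ bar` (upper unitriangular matrices `uM bar a b`) and transported to
`Cfsg.SU 3 F q` with helper86's `trEquiv` along a hyperbolic basis (`Cfsg.Agent.Helper75.P5.exists_hyp_basis`).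
-/

set_option autoImplicit false

namespace Cfsg.Agent.Helper88.U3O

open Matrix Cfsg.Agent.Helper84.RU3 Cfsg.Agent.Helper86.RU3 Cfsg.Agent.Helper45.GU Cfsg.Agent.S2587
  Cfsg.Agent.Helper38.Cov2 Cfsg.Agent.Helper97.U3E

variable {F : Type*} [Field F]

theorem uM_mul (bar : F →+* F) (a b a' b' : F) :
    uM bar a b * uM bar a' b' = uM bar (a + a') (b + b' - bar a * a') := by
  unfold uM
  ext i j
  fin_cases i <;> fin_cases j <;>
    simp [Matrix.mul_apply, Fin.sum_univ_three] <;> ring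

theorem uM_zero (bar : F →+* F) : uM bar (0 : F) 0 = 1 := by
  unfold uM
  ext i j
  fin_cases i <;> fin_cases j <;> simp [Matrix.one_apply]

theorem uM_mul_neg (bar : F →+* F) (a b : F) : uM bar a b * uM bar (-a) (-b - bar a * a) = 1 := by
  rw [uM_mul, ← uM_zero bar]
  congr 1 <;> ring

theorem uM_injective (bar : F →+* F) {a b a' b' : F} (h : uM bar a b = uM bar a' b') :
    a = a' ∧ b = b' := by
  have h1 := congrFun (congrFun h 1) 2
  have h2 := congrFun (congrFun h 0) 2
  simp [uM] at h1 h2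
  exact ⟨h1, h2⟩

/-- the upper unitriangular subgroup of the hyperbolic model -/
def UJ (bar : F →+* F) : Subgroup (SUJ bar) where
  carrier := {g | ∃ a b : F, mt bar g = uM bar a b}
  one_mem' := ⟨0, 0, by rw [mt_one, uM_zero]⟩
  mul_mem' := by
    rintro g h ⟨a, b, hg⟩ ⟨a', b', hh⟩
    exact ⟨a + a', b + b' - bar a * a', by rw [mt_mul, hg, hh, uM_mul]⟩
  inv_mem' := by
    rintro g ⟨a, b, hg⟩
    refine ⟨-a, -b - bar a * a, ?_⟩
    calc mt bar g⁻¹ = mt bar g⁻¹ * (uM bar a b * uM bar (-a) (-b - bar a * a)) := by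
          rw [uM_mul_neg, Matrix.mul_one]
      _ = (mt bar g⁻¹ * mt bar g) * uM bar (-a) (-b - bar a * a) := by rw [hg, Matrix.mul_assoc]
      _ = uM bar (-a) (-b - bar a * a) := by rw [mt_inv_mul, Matrix.one_mul]

theorem mem_UJ (bar : F →+* F) (g : SUJ bar) : g ∈ UJ bar ↔ ∃ a b : F, mt bar g = uM bar a b := Iff.rfl

/-- `J0` and `Jm` are the same matrix -/
theorem J0_eq_Jm : (J0 : Matrix (Fin 3) (Fin 3) F) = Jm := rfl

/-- the hypothesis of `trEquiv` from the output of `exists_hyp_basis` -/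
theorem hkey_of (bar : F →+* F) {P : Matrix (Fin 3) (Fin 3) F} (h : st bar P * P = J0) :
    Pᵀ * P.map bar = Jm := by
  rw [Cfsg.Agent.Helper75.P5.HB_transpose_mul_map, h, Cfsg.Agent.Helper75.P5.HB_transpose_J0, J0_eq_Jm]

end Cfsg.Agent.Helper88.U3O
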