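import Mathlib
import Cfsg.Agent.Helper88.U3O.Defs
import Cfsg.Agent.Helper30.U3E_SM
import Cfsg.Agent.Helper45.SUCard
import Cfsg.Agent.Helper13.UGen1
import Cfsg.Agent.Helper65.U3O_ISO
import Cfsg.Agent.Helper65.U3O_UC
import Cfsg.Agent.Helper41.U3O_UZ
import Cfsg.Agent.Helper53.U3O_UT
import Cfsg.Agent.Helper53.U3O_FAC

/-!
# S2786: central elements of Sylow `p`-subgroups of `PSU₃(q)` are conjugates of transvections (helper88)
-/

set_option autoImplicit false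

namespace Cfsg.Agent.Helper88.U3O

open Matrix Polynomial Cfsg.Agent.Helper84.RU3 Cfsg.Agent.Helper86.RU3 Cfsg.Agent.Helper45.GU
  Cfsg.Agent.S2587 Cfsg.Agent.Helper38.Cov2 Cfsg.Agent.Helper97.U3E
  Cfsg.Agent.Helper65.U3O Cfsg.Agent.Helper41.U3O Cfsg.Agent.Helper53.U3O

variable {F : Type*} [Field F]

theorem coprime_center (p n : ℕ) (hp : p.Prime) (hn : 1 ≤ n) : (Nat.gcd 3 (p ^ n + 1)).Coprime p := by
  have h1 : (p ^ n + 1).Coprime p := by
    rw [Nat.coprime_comm]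
    have : p.Coprime (p ^ n + 1) := by
      rw [Nat.Prime.coprime_iff_not_dvd hp]
      intro h
      have h2 : p ∣ p ^ n := dvd_pow_self p (by omega)
      have h3 : p ∣ 1 := (Nat.dvd_add_right h2).1 h
      exact hp.one_lt.ne' (Nat.dvd_one.1 h3)
    exact this
  exact Nat.Coprime.coprime_dvd_left (Nat.gcd_dvd_right _ _) h1

/-- (SY) a non-identity central element of a Sylow `p`-subgroup of `PSU₃(q)` is conjugate to the image of a
unitary transvection. -/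
theorem central_conj_odd [Fintype F] (p n : ℕ) [hp : Fact p.Prime] (hn : 1 ≤ n)
    (hF : Fintype.card F = (p ^ n) ^ 2) (bar : F →+* F) (hbar : ∀ x, bar x = x ^ (p ^ n))
    (R : Sylow p (Cfsg.PSU 3 F (p ^ n))) (t : Cfsg.PSU 3 F (p ^ n)) (htR : t ∈ R)
    (htc : ∀ x ∈ R, t * x = x * t) (ht1 : t ≠ 1) :
    ∃ (g : Cfsg.PSU 3 F (p ^ n)) (w : Fin 3 → F) (b : F) (y : Cfsg.SU 3 F (p ^ n)),
      w ≠ 0 ∧ herm bar w w = 0 ∧ bar b = -b ∧ b ≠ 0 ∧ mat y = tvMat bar w b ∧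
      t = g * (QuotientGroup.mk y : Cfsg.PSU 3 F (p ^ n)) * g⁻¹ := by
  classical
  have hb : ∀ x, bar (bar x) = x := by
    intro x
    rw [hbar, hbar]
    exact Cfsg.Agent.Helper13.frob_frob hF x
  obtain ⟨w, hw0, hw⟩ := exists_isotropic (p ^ n) hF bar hbar
  obtain ⟨P, P', hPP', hP'P, hJ, hPw⟩ :=
    Cfsg.Agent.Helper75.P5.exists_hyp_basis hF bar hbar w hw0 hw
  let φ : SUJ bar ≃* Cfsg.SU 3 F (p ^ n) := trEquiv bar (p ^ n) hbar hPP' hP'P (hkey_of bar hJ)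
  have hφ : ∀ u : SUJ bar, mat (φ u) = P * mt bar u * P' := fun u => rfl
  -- the Sylow subgroup of `SU`
  let U' : Subgroup (Cfsg.SU 3 F (p ^ n)) := (UJ bar).map φ.toMonoidHom
  have hU'card : Nat.card U' = p ^ (Nat.card (Cfsg.SU 3 F (p ^ n))).factorization p := by
    have h1 : Nat.card U' = Nat.card (UJ bar) :=
      Subgroup.card_map_of_injective (K := UJ bar) (f := φ.toMonoidHom) φ.injective
    rw [factorization_SU3 p n hp.1 hn hF, h1, card_UJ (p ^ n) hF bar hbar, ← pow_mul, mul_comm]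
  let S₀ : Sylow p (Cfsg.SU 3 F (p ^ n)) := Sylow.ofCard U' hU'card
  have hS₀ : ∀ x, x ∈ S₀ ↔ ∃ u ∈ UJ bar, φ u = x := by
    intro x
    show x ∈ U' ↔ _
    exact Subgroup.mem_map
  -- passage to `PSU`
  let π : Cfsg.SU 3 F (p ^ n) →* Cfsg.PSU 3 F (p ^ n) :=
    QuotientGroup.mk' (Subgroup.center (Cfsg.SU 3 F (p ^ n)))
  have hπs : Function.Surjective π := QuotientGroup.mk'_surjective _
  have hker : (Nat.card π.ker).Coprime p := by
    have : π.ker = Subgroup.center (Cfsg.SU 3 F (p ^ n)) := QuotientGroup.ker_mk' _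
    rw [this, Cfsg.Agent.Helper45.GU.card_center_SU hF 3 (by norm_num)]
    exact coprime_center p n hp.1 hn
  obtain ⟨⟨R₀, hR₀⟩, hinj⟩ := Cfsg.Agent.Helper30.U3E.sylow_map_of_coprime_ker π hπs hker S₀
  have hR₀' : ∀ x, x ∈ R₀ ↔ ∃ s ∈ S₀, π s = x := by
    intro x
    show x ∈ (R₀ : Subgroup (Cfsg.PSU 3 F (p ^ n))) ↔ _
    rw [hR₀]
    exact Subgroup.mem_map
  obtain ⟨g, hg⟩ := MulAction.exists_smul_eq (Cfsg.PSU 3 F (p ^ n)) R₀ R
  have hmemR : ∀ x, x ∈ R ↔ g⁻¹ * x * g ∈ R₀ := by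
    intro x
    rw [← hg]
    show x ∈ ((g • R₀ : Sylow p (Cfsg.PSU 3 F (p ^ n))) : Subgroup (Cfsg.PSU 3 F (p ^ n))) ↔ _
    rw [Sylow.coe_subgroup_smul, Subgroup.mem_pointwise_smul_iff_inv_smul_mem, MulAut.smul_def,
      MulAut.conj_inv_apply]
    rfl
  obtain ⟨s, hsS, hs⟩ := (hR₀' _).1 ((hmemR t).1 htR)
  obtain ⟨u, huU, hus⟩ := (hS₀ s).1 hsS
  -- `u` is central in `UJ`
  have hucen : ∀ x ∈ UJ bar, u * x = x * u := by
    intro x hx
    have hxS : φ x ∈ S₀ := (hS₀ _).2 ⟨x, hx, rfl⟩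
    have hy : g * π (φ x) * g⁻¹ ∈ R := by
      rw [hmemR]
      have : g⁻¹ * (g * π (φ x) * g⁻¹) * g = π (φ x) := by group
      rw [this]
      exact (hR₀' _).2 ⟨φ x, hxS, rfl⟩
    have hc := htc _ hy
    have e1 : π (φ x) * (g⁻¹ * t * g) = g⁻¹ * ((g * π (φ x) * g⁻¹) * t) * g := by group
    have e2 : g⁻¹ * t * g * π (φ x) = g⁻¹ * (t * (g * π (φ x) * g⁻¹)) * g := by group
    have hcomm : π (φ u) * π (φ x) = π (φ x) * π (φ u) := by
      rw [hus, hs, e1, e2, hc]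
    have hz : φ (u * x) * (φ (x * u))⁻¹ ∈ S₀ := by
      apply Subgroup.mul_mem
      · exact (hS₀ _).2 ⟨u * x, Subgroup.mul_mem _ huU hx, rfl⟩
      · apply Subgroup.inv_mem
        exact (hS₀ _).2 ⟨x * u, Subgroup.mul_mem _ hx huU, rfl⟩
    have hz1 : π (φ (u * x) * (φ (x * u))⁻¹) = 1 := by
      rw [map_mul, map_inv, map_mul, map_mul, map_mul, map_mul, hcomm, mul_inv_cancel]
    have hz2 := hinj _ hz hz1
    have hz3 : φ (u * x) = φ (x * u) := by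
      rw [mul_inv_eq_one] at hz2
      exact hz2
    exact φ.injective hz3
  obtain ⟨b, hbb, hub⟩ := center_UJ (p ^ n) hF bar hbar u huU hucen
  have hb0 : b ≠ 0 := by
    intro hb0
    rw [hb0, uM_zero, ← mt_one bar] at hub
    have hu1 : u = 1 := mt_injective bar hub
    apply ht1
    have : t = g * (g⁻¹ * t * g) * g⁻¹ := by group
    rw [this, ← hs, ← hus, hu1, map_one, map_one]
    group
  refine ⟨g, w, b, φ u, hw0, hw, ?_, hb0, ?_, ?_⟩
  · rw [eq_neg_iff_add_eq_zero, add_comm]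
    exact hbb
  · rw [hφ, hub, transport_central bar hb P P' hPP' hP'P hJ b, hPw]
  · have : (QuotientGroup.mk (φ u) : Cfsg.PSU 3 F (p ^ n)) = π (φ u) := rfl
    rw [this, hus, hs]
    group

/-- (SY), in the form of helper46's skeleton `tools/helper46_u3o/Skel.lean.txt`: the conjugating element is
absorbed into the transvection. -/
theorem central_tv [Fintype F] (p n : ℕ) [Fact p.Prime] (hn : 1 ≤ n)
    (hF : Fintype.card F = (p ^ n) ^ 2) (bar : F →+* F) (hbar : ∀ x, bar x = x ^ (p ^ n))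
    (R : Sylow p (Cfsg.PSU 3 F (p ^ n))) (t : Cfsg.PSU 3 F (p ^ n)) (htR : t ∈ R)
    (htc : ∀ x ∈ R, t * x = x * t) (ht1 : t ≠ 1) :
    ∃ (y : Cfsg.SU 3 F (p ^ n)) (v : Fin 3 → F) (c : F), v ≠ 0 ∧ herm bar v v = 0 ∧ bar c = -c ∧
      c ≠ 0 ∧ Cfsg.Agent.Helper38.Cov2.mat y = Cfsg.Agent.Helper97.U3E.tvMat bar v c ∧
      t = (QuotientGroup.mk y : Cfsg.PSU 3 F (p ^ n)) := by
  obtain ⟨g, w, b, y₀, hw0, hw, hb, hb0, hy₀, ht⟩ :=
    central_conj_odd p n hn hF bar hbar R t htR htc ht1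
  obtain ⟨g', rfl⟩ := QuotientGroup.mk_surjective g
  have hU : ∀ u v : Fin 3 → F, herm bar (mat g' *ᵥ u) (mat g' *ᵥ v) = herm bar u v :=
    (Cfsg.Agent.Helper45.GU.mem_SU_iff 3 bar hbar g'.1).1 g'.2
  refine ⟨g' * y₀ * g'⁻¹, mat g' *ᵥ w, b, ?_, ?_, hb, hb0, ?_, ?_⟩
  · intro h0
    apply hw0
    have : mat g'⁻¹ *ᵥ (mat g' *ᵥ w) = w := by
      rw [Matrix.mulVec_mulVec, mat_inv_mul, Matrix.one_mulVec]
    rw [← this, h0, Matrix.mulVec_zero]
  · rw [hU, hw]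
  · rw [mat_conj, hy₀, conj_tvMat bar hbar]
  · rw [ht]
    rfl

end Cfsg.Agent.Helper88.U3O
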